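import Cfsg.Agent.Lib.Involutions.Basic
import Cfsg.Agent.Lib.RepBounds.Eigen
import Cfsg.Agent.Lib.FpfHeight.EigenChar
import Cfsg.Agent.Lib.Coprime.Commutator
import Cfsg.Agent.Lib.PGroupTheory.MetacyclicFacts
import Mathlib.RepresentationTheory.Basic
import Mathlib.FieldTheory.IsAlgClosed.AlgebraicClosure

/-!
# A 2-group with one involution acting on an odd subgroup: module bounds
-/

set_option autoImplicit false

namespace Cfsg.Agent.Lib.BenderConsumers23.Mod

open Module Cfsg.Agent.Lib.Involutions.Basic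

variable {K : Type*} [Group K] [Finite K] {S : Subgroup K} {t : K}

/-- `t` is the only involution of the 2-group `S`. -/
structure OneInvol (S : Subgroup K) (t : K) : Prop where
  pgroup : IsPGroup 2 S
  mem : t ∈ S
  order : orderOf t = 2
  unique : ∀ s ∈ S, orderOf s = 2 → s = t

namespace OneInvol

variable (hS : OneInvol S t)
include hS

theorem exists_pow_eq {s : K} (hs : s ∈ S) (h1 : s ≠ 1) : ∃ i : ℕ, s ^ i = t := by
  haveI : Fact (Nat.Prime 2) := ⟨Nat.prime_two⟩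
  obtain ⟨k, hk⟩ := hS.pgroup ⟨s, hs⟩
  obtain ⟨j, -, hj⟩ := (Nat.dvd_prime_pow Nat.prime_two).1
    (orderOf_dvd_of_pow_eq_one (show s ^ 2 ^ k = 1 from congrArg Subtype.val hk))
  rcases j with _ | j
  · exact absurd (orderOf_eq_one_iff.1 (by rwa [pow_zero] at hj)) h1
  refine ⟨2 ^ j, hS.unique _ (pow_mem hs _) ?_⟩
  rw [orderOf_pow_of_dvd (pow_ne_zero _ two_ne_zero) (hj ▸ pow_dvd_pow 2 (Nat.le_succ j)), hj,
    pow_succ, Nat.mul_div_cancel_left _ (pow_pos (by norm_num) j)]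

theorem comm {s : K} (hs : s ∈ S) : s * t * s⁻¹ = t :=
  hS.unique _ (mul_mem (mul_mem hs hS.mem) (inv_mem hs))
    ((orderOf_conj_eq s t).trans hS.order)

/-- An abelian invariant subgroup of odd order not centralised by `t` gives a regular orbit of
characters. -/
theorem card_le_of_abelian {V : Type*} [AddCommGroup V] [Module (ZMod 2) V]
    [Module.Finite (ZMod 2) V] (ρ : Representation (ZMod 2) K V) (hρ : Function.Injective ρ)
    {R : Subgroup K} (hodd : Odd (Nat.card R)) (hab : ∀ a ∈ R, ∀ b ∈ R, a * b = b * a)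
    (hSR : S ≤ Subgroup.normalizer (R : Set K)) {r : K} (hr : r ∈ R) (hne : t * r * t⁻¹ ≠ r) :
    Nat.card S ≤ finrank (ZMod 2) V := by
  classical
  haveI : Fact (Nat.Prime 2) := ⟨Nat.prime_two⟩
  let B := Module.finBasis (ZMod 2) V
  let k := AlgebraicClosure (ZMod 2)
  haveI : CharP k 2 := charP_of_injective_algebraMap (algebraMap (ZMod 2) k).injective 2
  let φ : Module.End (ZMod 2) V →+* Module.End k (Fin (finrank (ZMod 2) V) → k) :=
    (Matrix.toLinAlgEquiv' (R := k)).toRingEquiv.toRingHom.comp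
      ((algebraMap (ZMod 2) k).mapMatrix.comp (LinearMap.toMatrixAlgEquiv B).toRingEquiv.toRingHom)
  have hφ : Function.Injective φ := fun P Q h =>
    (LinearMap.toMatrixAlgEquiv B).injective (Matrix.map_injective (algebraMap (ZMod 2) k).injective
      ((Matrix.toLinAlgEquiv' (R := k)).injective h))
  set f : K →* Module.End k (Fin (finrank (ZMod 2) V) → k) := φ.toMonoidHom.comp ρ with hf
  have hfinj : Function.Injective f := hφ.comp hρ
  have hconj : ∀ s ∈ S, ∀ z ∈ R, s * z * s⁻¹ ∈ R := fun s hs z hz =>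
    (Subgroup.mem_normalizer_iff.1 (hSR hs) z).1 hz
  set b := t * r * t⁻¹ * r⁻¹ with hb
  have hbR : b ∈ R := mul_mem (hconj t hS.mem r hr) (R.inv_mem hr)
  have hb1 : b ≠ 1 := fun h => hne (mul_inv_eq_one.1 h)
  have hN : ((orderOf b : ℕ) : k) ≠ 0 := by
    rw [Ne, CharP.cast_eq_zero_iff k 2]
    intro hd
    exact Nat.not_even_iff_odd.2 hodd
      (even_iff_two_dvd.2 (hd.trans (Subgroup.orderOf_dvd_natCard _ hbR)))
  obtain ⟨c, hc, hc1⟩ := RepBounds.exists_eigenvalue_pow_ne_one (f b) hN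
    (by rw [← map_pow, pow_orderOf_eq_one, map_one]) (m := 1)
    (by rw [pow_one]; exact fun h => hb1 (hfinj (h.trans (map_one f).symm)))
  rw [pow_one] at hc1
  obtain ⟨w, μ, hw, hw0, hμ⟩ := FpfHeight.EigenChar.exists_common_eigenvector (Z := R)
    (f.comp R.subtype) (fun a a' => by
      show Commute (f a) (f a')
      exact (show Commute (a : K) a' from hab a a.2 a' a'.2).map f)
    (Module.End.eigenspace (f b) c) hc (fun a v hv => by
      rw [Module.End.mem_eigenspace_iff] at hv ⊢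
      show f b (f a v) = c • f a v
      rw [← Module.End.mul_apply, ← map_mul, hab b hbR a a.2, map_mul, Module.End.mul_apply, hv,
        map_smul])
  have hμb : μ ⟨b, hbR⟩ = c := by
    have h1 := hμ ⟨b, hbR⟩
    have h2 : f b w = c • w := Module.End.mem_eigenspace_iff.1 hw
    exact smul_left_injective k hw0 (h1.symm.trans h2)
  have hS' : ∀ s ∈ S, ∀ z ∈ R, s⁻¹ * z * s ∈ R := fun s hs z hz => by
    simpa using hconj s⁻¹ (S.inv_mem hs) z hz
  let χ : S → (R → k) := fun s z => μ ⟨(s : K)⁻¹ * z * s, hS' s s.2 z z.2⟩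
  have hinj : Function.Injective χ := by
    intro s s' h
    by_contra hss
    set σ := (s' : K)⁻¹ * s with hσ
    have hσS : σ ∈ S := mul_mem (S.inv_mem s'.2) s.2
    have hσ1 : σ ≠ 1 := fun e => hss (Subtype.ext (inv_mul_eq_one.1 e).symm)
    have hfix : ∀ n : ℕ, ∀ z (hz : z ∈ R),
        μ ⟨(σ ^ n)⁻¹ * z * σ ^ n, hS' _ (pow_mem hσS n) z hz⟩ = μ ⟨z, hz⟩ := by
      intro n
      induction n with
      | zero => intro z hz; simp
      | succ n ih =>
        intro z hz
        have h1 := congrFun h ⟨(s' : K) * ((σ ^ n)⁻¹ * z * σ ^ n) * (s' : K)⁻¹,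
          hconj _ s'.2 _ (hS' _ (pow_mem hσS n) z hz)⟩
        refine Eq.trans ?_ ((h1.trans ?_).trans (ih z hz))
        · refine congrArg μ (Subtype.ext ?_)
          show (σ ^ (n + 1))⁻¹ * z * σ ^ (n + 1) = (s : K)⁻¹ * _ * s
          simp only [pow_succ, hσ]
          group
        · refine congrArg μ (Subtype.ext ?_)
          show (s' : K)⁻¹ * _ * s' = _
          group
    obtain ⟨i, hi⟩ := hS.exists_pow_eq hσS hσ1
    have ht2 : t⁻¹ = t := invol_inv hS.order
    have h1 := hfix i r hr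
    refine hc1 ?_
    rw [← hμb]
    have h2 : (⟨b, hbR⟩ : R) = ⟨(σ ^ i)⁻¹ * r * σ ^ i, hS' _ (pow_mem hσS i) r hr⟩ * ⟨r, hr⟩⁻¹ :=
      Subtype.ext (by simp only [Subgroup.coe_mul, Subgroup.coe_inv, hi, ht2, hb])
    rw [h2, map_mul, h1, ← map_mul, mul_inv_cancel, map_one]
  haveI := Fintype.ofFinite S
  have hle := RepBounds.card_le_finrank_of_eigenchar (fun z : R => f z) (Finset.univ.image χ) (by
    intro ψ hψ
    obtain ⟨s, -, rfl⟩ := Finset.mem_image.1 hψ
    refine ⟨f s w, fun h0 => hw0 ?_, fun z => ?_⟩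
    · have := congrArg (f (s : K)⁻¹) h0
      rwa [← Module.End.mul_apply, ← map_mul, inv_mul_cancel, map_one, Module.End.one_apply,
        map_zero] at this
    · have h1 : f ((s : K)⁻¹ * z * s) w = χ s z • w := hμ ⟨_, hS' s s.2 z z.2⟩
      rw [← map_smul, ← h1, ← Module.End.mul_apply, ← map_mul, ← Module.End.mul_apply, ← map_mul]
      congr 2
      group)
  rw [Finset.card_image_of_injective _ hinj, Finset.card_univ, Module.finrank_fin_fun] at hle
  rwa [Nat.card_eq_fintype_card]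

/-- A non-abelian `p`-group of small exponent of `p` modulo `|S|` is centralised by `t`. -/
theorem centralizes {R : Subgroup K} {p a k : ℕ} [Fact p.Prime] (hp2 : p ≠ 2)
    (hR : Nat.card R = p ^ a) (hSk : Nat.card S = 2 ^ k)
    (hord : ∀ j : ℕ, 1 ≤ j → j < a → ¬ p ^ j ≡ 1 [MOD 2 ^ k])
    (hnab : ¬ ∀ x ∈ R, ∀ y ∈ R, x * y = y * x)
    (hSR : S ≤ Subgroup.normalizer (R : Set K)) : ∀ x ∈ R, t * x * t⁻¹ = x := by
  classical
  have hRp : IsPGroup p R := IsPGroup.of_card hR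
  set Φ : Subgroup K := (frattini R).map R.subtype with hΦ
  have hΦR : Φ ≤ R := Subgroup.map_subtype_le _
  have hconj : ∀ s ∈ Subgroup.normalizer (R : Set K), ∀ z ∈ Φ, s * z * s⁻¹ ∈ Φ := by
    intro s hs z hz
    obtain ⟨⟨y, hy⟩, hy', rfl⟩ := hz
    exact ⟨⟨s * y * s⁻¹, (Subgroup.mem_normalizer_iff.1 hs y).1 hy⟩,
      Subgroup.characteristic_iff_map_le.1 inferInstance
        (R.normalizerMonoidHom ⟨s, hs⟩) ⟨⟨y, hy⟩, hy', rfl⟩, rfl⟩
  have htN : t ∈ Subgroup.normalizer (R : Set K) := hSR hS.mem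
  let D : Subgroup K :=
    { carrier := {x | x ∈ R ∧ t * x * t⁻¹ * x⁻¹ ∈ Φ}
      mul_mem' := fun {x y} hx hy => ⟨mul_mem hx.1 hy.1, by
        have e : t * (x * y) * t⁻¹ * (x * y)⁻¹ =
            t * x * t⁻¹ * x⁻¹ * (x * (t * y * t⁻¹ * y⁻¹) * x⁻¹) := by group
        rw [e]
        exact mul_mem hx.2 (hconj x (Subgroup.le_normalizer hx.1) _ hy.2)⟩
      one_mem' := ⟨one_mem _, by simp⟩
      inv_mem' := fun {x} hx => ⟨inv_mem hx.1, by
        have e : t * x⁻¹ * t⁻¹ * x⁻¹⁻¹ = x⁻¹ * (t * x * t⁻¹ * x⁻¹)⁻¹ * x⁻¹⁻¹ := by group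
        rw [e]
        exact hconj x⁻¹ (inv_mem (Subgroup.le_normalizer hx.1)) _ (inv_mem hx.2)⟩ }
  have hDR : D ≤ R := fun x hx => hx.1
  by_cases hDtop : R ≤ D
  · intro x hx
    have h1 : Subgroup.zpowers t ≤ Subgroup.centralizer (R : Set K) := by
      refine Coprime.le_centralizer_of_frattini (Subgroup.zpowers_le.2 htN) ?_ ?_
      · rw [Nat.card_zpowers, hS.order]
        refine Nat.Coprime.coprime_dvd_right (Subgroup.card_subgroup_dvd_card _) ?_
        rw [hR]
        exact Nat.Coprime.pow_right _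
          ((Nat.coprime_primes Nat.prime_two (Fact.out : p.Prime)).2 hp2.symm)
      · intro s hs y hy
        obtain ⟨i, rfl⟩ := Subgroup.mem_zpowers_iff.1 hs
        rw [← zpow_mod_orderOf, hS.order]
        rcases Int.emod_two_eq i with h | h <;> rw [Nat.cast_ofNat, h]
        · simp
        · rw [zpow_one]; exact (hDtop hy).2
    exact mul_inv_eq_iff_eq_mul.2
      (Subgroup.mem_centralizer_iff.1 (h1 (Subgroup.mem_zpowers t)) x hx).symm
  exfalso
  have hΦD : Φ ≤ D := fun x hx => ⟨hΦR hx,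
    mul_mem (hconj t htN x hx) (inv_mem hx)⟩
  have hΦ1 : Φ ≠ ⊥ := fun h => hnab fun x hx y hy => by
    have hbot : frattini R = ⊥ := (Subgroup.map_eq_bot_iff_of_injective _ R.subtype_injective).1 h
    have hc := Cfsg.Agent.Lib.PGroups.commutator_le_frattini hRp
    rw [hbot, le_bot_iff, commutator_eq_bot_iff] at hc
    exact congrArg Subtype.val (hc.is_comm.comm (⟨x, hx⟩ : R) ⟨y, hy⟩)
  obtain ⟨b, hba, hb⟩ := (Nat.dvd_prime_pow (Fact.out : p.Prime)).1
    (hR ▸ Subgroup.card_dvd_of_le hDR)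
  have hb1 : 1 ≤ b := by
    rcases Nat.eq_zero_or_pos b with rfl | h
    · exact absurd (le_bot_iff.1 (Subgroup.eq_bot_of_card_eq D (by rw [hb, pow_zero]) ▸ hΦD)) hΦ1
    · exact h
  have hblt : b < a := by
    rcases hba.lt_or_eq with h | rfl
    · exact h
    · exact absurd (Subgroup.eq_of_le_of_card_ge hDR (by rw [hb, hR])).ge hDtop
  let X := {x : K // x ∈ R ∧ x ∉ D}
  have hX : ∀ (s : S) (x : X), (s : K) * x.1 * (s : K)⁻¹ ∈ R ∧ (s : K) * x.1 * (s : K)⁻¹ ∉ D := by
    intro s x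
    refine ⟨(Subgroup.mem_normalizer_iff.1 (hSR s.2) _).1 x.2.1, fun h => x.2.2 ⟨x.2.1, ?_⟩⟩
    have := hconj (s : K)⁻¹ (inv_mem (hSR s.2)) _ h.2
    have e : (s : K)⁻¹ * (t * ((s : K) * x.1 * (s : K)⁻¹) * t⁻¹ * ((s : K) * x.1 * (s : K)⁻¹)⁻¹) *
        (s : K)⁻¹⁻¹ = ((s : K)⁻¹ * t * (s : K)) * x.1 * ((s : K)⁻¹ * t * (s : K))⁻¹ * x.1⁻¹ := by group
    rw [e, show (s : K)⁻¹ * t * (s : K) = t by simpa using hS.comm (inv_mem s.2)] at this
    exact this
  letI : MulAction S X :=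
    { smul := fun s x => ⟨(s : K) * x.1 * (s : K)⁻¹, hX s x⟩
      one_smul := fun x => Subtype.ext (by show ((1 : S) : K) * x.1 * ((1 : S) : K)⁻¹ = x.1; simp)
      mul_smul := fun s s' x => Subtype.ext (by
        show ((s * s' : S) : K) * x.1 * ((s * s' : S) : K)⁻¹ =
          (s : K) * ((s' : K) * x.1 * (s' : K)⁻¹) * (s : K)⁻¹
        simp [mul_assoc]) }
  have hfree : ∀ x : X, MulAction.stabilizer S x = ⊥ := by
    intro x
    rw [Subgroup.eq_bot_iff_forall]
    intro s hs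
    by_contra hne
    obtain ⟨i, hi⟩ := hS.exists_pow_eq s.2 (fun e => hne (Subtype.ext e))
    have hst : (s ^ i) • x = x := MulAction.mem_stabilizer_iff.1 (pow_mem hs i)
    have h1 : t * x.1 * t⁻¹ = x.1 := by
      rw [← hi]
      exact congrArg Subtype.val hst
    exact x.2.2 ⟨x.2.1, by rw [h1, mul_inv_cancel]; exact one_mem _⟩
  haveI := Fintype.ofFinite X
  have hdvd : Nat.card S ∣ Nat.card X := by
    rw [Nat.card_congr (MulAction.selfEquivOrbitsQuotientProd hfree), Nat.card_prod]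
    exact dvd_mul_left _ _
  have hcard : Nat.card X + p ^ b = p ^ a := by
    rw [← hR, ← hb]
    have : Nat.card X = ((R : Set K) \ (D : Set K)).ncard := Nat.card_coe_set_eq _
    rw [this]
    exact Set.ncard_sdiff_add_ncard_of_subset (s := (D : Set K)) (t := (R : Set K)) hDR
  refine hord (a - b) (by omega) (by omega) ?_
  have hmod : p ^ b * p ^ (a - b) ≡ p ^ b * 1 [MOD 2 ^ k] := by
    rw [← pow_add, Nat.add_sub_cancel' hblt.le, mul_one, ← hcard]
    conv_rhs => rw [← zero_add (p ^ b)]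
    exact Nat.ModEq.add_right _ (Nat.modEq_zero_iff_dvd.2 (hSk ▸ hdvd))
  exact Nat.ModEq.cancel_left_of_coprime (((Nat.coprime_primes Nat.prime_two (Fact.out : p.Prime)).2
    hp2.symm).pow _ _) hmod

end OneInvol

end Cfsg.Agent.Lib.BenderConsumers23.Mod
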