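import Mathlib.LinearAlgebra.Matrix.GeneralLinearGroup.Card
import Mathlib.RepresentationTheory.Basic
import Mathlib.Tactic

/-!
# Odd primes cubed dividing the orders of small general linear groups over two elements
-/

set_option autoImplicit false

namespace Cfsg.Agent.Lib.BenderConsumers23.Mod

open Module

theorem dvd_card_GL {d D : ℕ} {p a : ℕ} (hp : p.Prime) (hp2 : p ≠ 2)
    (h : p ^ a ∣ Nat.card (GL (Fin d) (ZMod 2))) {e M : ℕ}
    (hM : ∏ i : Fin d, (2 ^ d - 2 ^ (i : ℕ)) = 2 ^ e * M) (hMD : M ∣ D) : p ^ a ∣ D := by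
  haveI : Fact (Nat.Prime 2) := ⟨Nat.prime_two⟩
  rw [Matrix.card_GL_field, ZMod.card, hM] at h
  exact ((Nat.Coprime.pow a e ((Nat.coprime_primes hp Nat.prime_two).2 hp2)).dvd_of_dvd_mul_left h).trans hMD

theorem bound_five {d p a : ℕ} (hd : d ≤ 5) (hp : p.Prime) (hp2 : p ≠ 2)
    (h : p ^ a ∣ Nat.card (GL (Fin d) (ZMod 2))) : p ^ a ∣ 9765 := by
  interval_cases d
  · exact dvd_card_GL hp hp2 h (e := 0) (M := 1) rfl (by norm_num)
  · exact dvd_card_GL hp hp2 h (e := 0) (M := 1) rfl (by norm_num)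
  · exact dvd_card_GL hp hp2 h (e := 1) (M := 3) rfl (by norm_num)
  · exact dvd_card_GL hp hp2 h (e := 3) (M := 21) rfl (by norm_num)
  · exact dvd_card_GL hp hp2 h (e := 6) (M := 315) rfl (by norm_num)
  · exact dvd_card_GL hp hp2 h (e := 10) (M := 9765) rfl (by norm_num)

theorem bound_seven {d p a : ℕ} (hd : d ≤ 7) (hp : p.Prime) (hp2 : p ≠ 2)
    (h : p ^ a ∣ Nat.card (GL (Fin d) (ZMod 2))) : p ^ a ∣ 78129765 := by
  by_cases hd5 : d ≤ 5
  · exact (bound_five hd5 hp hp2 h).trans (by norm_num)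
  interval_cases d
  · exact dvd_card_GL hp hp2 h (e := 15) (M := 615195) rfl (by norm_num)
  · exact dvd_card_GL hp hp2 h (e := 21) (M := 78129765) rfl (by norm_num)

theorem bound_nine {d p a : ℕ} (hd : d ≤ 9) (hp : p.Prime) (hp2 : p ≠ 2)
    (h : p ^ a ∣ Nat.card (GL (Fin d) (ZMod 2))) : p ^ a ∣ 10180699028325 := by
  by_cases hd7 : d ≤ 7
  · exact (bound_seven hd7 hp hp2 h).trans (by norm_num)
  interval_cases d
  · exact dvd_card_GL hp hp2 h (e := 28) (M := 19923090075) rfl (by norm_num)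
  · exact dvd_card_GL hp hp2 h (e := 36) (M := 10180699028325) rfl (by norm_num)

theorem eq_of_prime_dvd_mul {p : ℕ} (hp : p.Prime)
    (h : p ∣ 3 ^ 5 * 5 ^ 2 * 7 ^ 3 * 17 * 31 * 73 * 127) :
    p = 3 ∨ p = 5 ∨ p = 7 ∨ p = 17 ∨ p = 31 ∨ p = 73 ∨ p = 127 := by
  have key : ∀ q j : ℕ, q.Prime → p ∣ q ^ j → p = q := fun q j hq hd =>
    (Nat.prime_dvd_prime_iff_eq hp hq).1 (hp.dvd_of_dvd_pow hd)
  rcases hp.dvd_mul.1 h with h | h
  rcases hp.dvd_mul.1 h with h | h
  rcases hp.dvd_mul.1 h with h | h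
  rcases hp.dvd_mul.1 h with h | h
  rcases hp.dvd_mul.1 h with h | h
  rcases hp.dvd_mul.1 h with h | h
  · have := key 3 5 (by norm_num) h; omega
  · have := key 5 2 (by norm_num) h; omega
  · have := key 7 3 (by norm_num) h; omega
  · have := (Nat.prime_dvd_prime_iff_eq hp (by norm_num)).1 h; omega
  · have := (Nat.prime_dvd_prime_iff_eq hp (by norm_num)).1 h; omega
  · have := (Nat.prime_dvd_prime_iff_eq hp (by norm_num)).1 h; omega
  · have := (Nat.prime_dvd_prime_iff_eq hp (by norm_num)).1 h; omega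

/-- In dimension at most `2 k - 1`, `k ≤ 5`, the relevant residues avoid one. -/
theorem no_one_residue {d k p a : ℕ} (hk : k ≤ 5) (hd : d + 1 ≤ 2 * k) (hp : p.Prime) (hp2 : p ≠ 2)
    (h : p ^ a ∣ Nat.card (GL (Fin d) (ZMod 2))) (ha : 3 ≤ a) :
    ∀ j : ℕ, 1 ≤ j → j < a → ¬ p ^ j ≡ 1 [MOD 2 ^ k] := by
  have h9 : p ^ a ∣ 10180699028325 := bound_nine (by omega) hp hp2 h
  have hpd : p ∣ 3 ^ 5 * 5 ^ 2 * 7 ^ 3 * 17 * 31 * 73 * 127 :=
    ((dvd_pow_self p (by omega)).trans h9).trans (by norm_num)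
  have h3 : p ^ 3 ∣ 10180699028325 := (pow_dvd_pow p ha).trans h9
  intro j hj hja
  by_cases hk3 : k ≤ 3
  · have h5 : p ^ 3 ∣ 9765 := (pow_dvd_pow p ha).trans (bound_five (by omega) hp hp2 h)
    rcases eq_of_prime_dvd_mul hp hpd with rfl | rfl | rfl | rfl | rfl | rfl | rfl <;> norm_num at h5
  by_cases hk4 : k ≤ 4
  · obtain rfl : k = 4 := by omega
    have h7 : p ^ a ∣ 78129765 := bound_seven (by omega) hp hp2 h
    have h73 : p ^ 3 ∣ 78129765 := (pow_dvd_pow p ha).trans h7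
    rcases eq_of_prime_dvd_mul hp hpd with rfl | rfl | rfl | rfl | rfl | rfl | rfl <;>
      (try (norm_num at h73; done))
    have ha4 : a ≤ 4 := by
      by_contra hc
      have := (pow_dvd_pow 3 (show 5 ≤ a by omega)).trans h7
      norm_num at this
    have hj3 : j ≤ 3 := by omega
    unfold Nat.ModEq
    interval_cases j <;> norm_num
  · obtain rfl : k = 5 := by omega
    rcases eq_of_prime_dvd_mul hp hpd with rfl | rfl | rfl | rfl | rfl | rfl | rfl <;>
      (try (norm_num at h3; done))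
    · have ha5 : a ≤ 5 := by
        by_contra hc
        have := (pow_dvd_pow 3 (show 6 ≤ a by omega)).trans h9
        norm_num at this
      have hj4 : j ≤ 4 := by omega
      unfold Nat.ModEq
      interval_cases j <;> norm_num
    · have ha3 : a ≤ 3 := by
        by_contra hc
        have := (pow_dvd_pow 7 (show 4 ≤ a by omega)).trans h9
        norm_num at this
      have hj2 : j ≤ 2 := by omega
      unfold Nat.ModEq
      interval_cases j <;> norm_num

end Cfsg.Agent.Lib.BenderConsumers23.Mod
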