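import Cfsg.Agent.Lib.LAEven65.RankOneModule
import Mathlib.RepresentationTheory.Basic
import Mathlib.FieldTheory.Finiteness
import Mathlib.GroupTheory.SemidirectProduct
import Mathlib.LinearAlgebra.Eigenspace.Zero

/-!
# Faithful modules over the field with two elements: bounds from elements and their orders
-/

set_option autoImplicit false

namespace Cfsg.Agent.Lib.BenderConsumers23.Mod

open Module

variable {K V : Type*} [Group K] [Finite K] [AddCommGroup V] [Module (ZMod 2) V]
  [Module.Finite (ZMod 2) V]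

/-- The automorphisms of `V` written multiplicatively. -/
def toMulAut (ρ : Representation (ZMod 2) K V) : K →* MulAut (Multiplicative V) where
  toFun g := AddEquiv.toMultiplicative
    { toFun := ρ g
      invFun := ρ g⁻¹
      left_inv := fun x => by rw [← Module.End.mul_apply, ← map_mul, inv_mul_cancel, map_one, Module.End.one_apply]
      right_inv := fun x => by rw [← Module.End.mul_apply, ← map_mul, mul_inv_cancel, map_one, Module.End.one_apply]
      map_add' := map_add _ }
  map_one' := by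
    ext v
    exact congrArg Multiplicative.ofAdd (LinearMap.congr_fun (map_one ρ) (Multiplicative.toAdd v))
  map_mul' g g' := by
    ext v
    exact congrArg Multiplicative.ofAdd (LinearMap.congr_fun (map_mul ρ g g') (Multiplicative.toAdd v))

theorem toMulAut_apply (ρ : Representation (ZMod 2) K V) (g : K) (v : Multiplicative V) :
    toMulAut ρ g v = Multiplicative.ofAdd (ρ g (Multiplicative.toAdd v)) := rfl

open SemidirectProduct in
/-- Two conjugates of `s` generating, over a quotient, an element of order `r ^ (e + 1)`. -/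
theorem two_mul_rank_bound (ρ : Representation (ZMod 2) K V) (hρ : Function.Injective ρ)
    {Q : Type*} [Group Q] (π : K →* Q) {r : ℕ} [Fact r.Prime] (hr2 : r ≠ 2) {e m : ℕ}
    (hord : ∀ k : ℕ, 2 ^ k ≡ 1 [MOD r ^ (e + 1)] → m ∣ k) {s : K}
    (hy : ∃ g y : K, y ∈ Subgroup.closure ({s, g * s * g⁻¹} : Set K) ∧ orderOf (π y) = r ^ (e + 1)) :
    m ≤ 2 * finrank (ZMod 2) ↥(LinearMap.range (ρ s - 1)) ∧ m ≤ finrank (ZMod 2) V := by
  haveI : Fact (Nat.Prime 2) := ⟨Nat.prime_two⟩
  have : Finite V := Module.finite_of_finite (ZMod 2)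
  set φ := toMulAut ρ with hφ
  have : Finite (Multiplicative V ⋊[φ] K) := Finite.of_equiv _ SemidirectProduct.equivProd.symm
  set W := (inl : Multiplicative V →* Multiplicative V ⋊[φ] K).range with hW
  set H := (inr : K →* Multiplicative V ⋊[φ] K).range with hH
  have h2 : ∀ x : Multiplicative V, x ^ 2 = 1 := fun x => Multiplicative.toAdd.injective (by
    rw [toAdd_pow, toAdd_one, ← Nat.cast_smul_eq_nsmul (ZMod 2), ZMod.natCast_self, zero_smul])
  have hWel : Cfsg.IsElementaryAbelian 2 W := by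
    refine ⟨⟨⟨fun a b => ?_⟩⟩, ?_⟩
    · obtain ⟨_, x, rfl⟩ := a
      obtain ⟨_, y, rfl⟩ := b
      exact Subtype.ext (by simp only [Subgroup.coe_mul, ← map_mul, mul_comm])
    · rintro _ ⟨x, rfl⟩
      rw [← map_pow, h2, map_one]
  have hN : H ≤ Subgroup.normalizer (W : Set (Multiplicative V ⋊[φ] K)) := by
    rw [hW, range_inl_eq_ker_rightHom, Subgroup.normalizer_eq_top_iff.2 (MonoidHom.normal_ker _)]
    exact le_top
  have hcom : ∀ (g : K) (x : Multiplicative V),
      inl x * inr g = (inr g * inl x : Multiplicative V ⋊[φ] K) ↔ ρ g (Multiplicative.toAdd x) = Multiplicative.toAdd x := by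
    intro g x
    constructor
    · intro h
      have := congrArg SemidirectProduct.left h
      simp only [mul_left, left_inl, left_inr, right_inl, right_inr, map_one, mul_one, one_mul,
        hφ, toMulAut_apply] at this
      exact (congrArg Multiplicative.toAdd this).symm
    · intro h
      apply SemidirectProduct.ext
      · simp only [mul_left, left_inl, left_inr, right_inl, right_inr, map_one, mul_one, one_mul,
          hφ, toMulAut_apply]
        rw [h, ofAdd_toAdd]
      · simp
  have hf : H ⊓ Subgroup.centralizer (W : Set (Multiplicative V ⋊[φ] K)) = ⊥ := by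
    rw [eq_bot_iff]
    rintro _ ⟨⟨g, rfl⟩, hg⟩
    have hone : g = 1 := hρ (LinearMap.ext fun v => by
      rw [map_one, Module.End.one_apply]
      exact (hcom g (Multiplicative.ofAdd v)).1
        (Subgroup.mem_centralizer_iff.1 hg _ ⟨_, rfl⟩))
    simp [hone]
  set j : K ≃* H := MonoidHom.ofInjective inr_injective
  obtain ⟨g, y, hy, hyo⟩ := hy
  have hy' : j y ∈ Subgroup.closure ({j s, j g * j s * (j g)⁻¹} : Set H) := by
    have := Subgroup.mem_map_of_mem j.toMonoidHom hy
    rwa [MonoidHom.map_closure, Set.image_pair, map_mul, map_mul, map_inv] at this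
  obtain ⟨h1, h3⟩ := LAEven65.RankOneModule.bound (p := 2) hWel hN hf (π.comp j.symm.toMonoidHom)
    hr2 hord ⟨j g, j y, hy', by simpa using hyo⟩
  have hW' : Nat.card W = 2 ^ finrank (ZMod 2) V := by
    rw [hW, ← Nat.card_congr (MonoidHom.ofInjective (inl_injective (φ := φ))).toEquiv,
      Nat.card_congr Multiplicative.toAdd, Module.natCard_eq_pow_finrank (K := ZMod 2), Nat.card_zmod]
  rw [hW'] at h3
  refine ⟨?_, (Nat.pow_le_pow_iff_right (by norm_num)).1 h3⟩
  set f := ρ s - 1 with hfdef
  have hC : Nat.card ↥(W ⊓ Subgroup.centralizer ({((j s : H) : Multiplicative V ⋊[φ] K)} : Set _)) =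
      2 ^ finrank (ZMod 2) ↥(LinearMap.ker f) := by
    have hk := Module.natCard_eq_pow_finrank (K := ZMod 2) (V := ↥(LinearMap.ker f))
    rw [Nat.card_zmod] at hk
    rw [← hk]
    refine (Nat.card_congr (Equiv.ofBijective
      (fun v : LinearMap.ker f => (⟨inl (Multiplicative.ofAdd (v : V)), ⟨_, rfl⟩,
        Subgroup.mem_centralizer_singleton_iff.2 ((hcom s _).2 ?_)⟩ :
        ↥(W ⊓ Subgroup.centralizer ({((j s : H) : Multiplicative V ⋊[φ] K)} : Set _)))) ⟨?_, ?_⟩)).symm
    · have := LinearMap.mem_ker.1 v.2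
      exact sub_eq_zero.1 this
    · intro a b h
      exact Subtype.ext (Multiplicative.ofAdd.injective (inl_injective (congrArg Subtype.val h)))
    · rintro ⟨_, ⟨x, rfl⟩, hx⟩
      refine ⟨⟨Multiplicative.toAdd x, ?_⟩, rfl⟩
      rw [LinearMap.mem_ker, hfdef, LinearMap.sub_apply, Module.End.one_apply, sub_eq_zero]
      exact (hcom s x).1 (Subgroup.mem_centralizer_singleton_iff.1 hx)
  set C := W ⊓ Subgroup.centralizer ({((j s : H) : Multiplicative V ⋊[φ] K)} : Set _)
  have h4 := (C.subgroupOf W).card_mul_index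
  rw [Nat.card_congr (Subgroup.subgroupOfEquivOfLe (inf_le_left : C ≤ W)).toEquiv, hC, hW',
    ← LinearMap.finrank_range_add_finrank_ker f, add_comm, pow_add] at h4
  have h5 : C.relIndex W = 2 ^ finrank (ZMod 2) ↥(LinearMap.range f) :=
    Nat.eq_of_mul_eq_mul_left (by positivity) h4
  rw [h5, ← pow_mul] at h1
  rw [mul_comm]
  exact (Nat.pow_le_pow_iff_right (by norm_num)).1 h1

/-- An element of order `r ^ (e + 1)` bounds the dimension. -/
theorem rank_bound (ρ : Representation (ZMod 2) K V) (hρ : Function.Injective ρ)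
    {Q : Type*} [Group Q] (π : K →* Q) {r : ℕ} [Fact r.Prime] (hr2 : r ≠ 2) {e m : ℕ}
    (hord : ∀ k : ℕ, 2 ^ k ≡ 1 [MOD r ^ (e + 1)] → m ∣ k) {y : K}
    (hy : orderOf (π y) = r ^ (e + 1)) : m ≤ finrank (ZMod 2) V :=
  (two_mul_rank_bound ρ hρ π hr2 hord (s := y) ⟨1, y, Subgroup.subset_closure (Or.inl rfl), hy⟩).2

omit [Finite K] in
/-- A power of `g` moves no more than `g`. -/
theorem range_pow_le (ρ : Representation (ZMod 2) K V) (g : K) (i : ℕ) :
    LinearMap.range (ρ (g ^ i) - 1) ≤ LinearMap.range (ρ g - 1) := by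
  induction i with
  | zero => simp
  | succ i ih =>
    rintro _ ⟨v, rfl⟩
    have : (ρ (g ^ (i + 1)) - 1) v = (ρ g - 1) (ρ (g ^ i) v) + (ρ (g ^ i) - 1) v := by
      simp [pow_succ', map_mul]
    rw [this]
    exact add_mem ⟨_, rfl⟩ (ih ⟨v, rfl⟩)

omit [Finite K] in
/-- An element of order `2 ^ (i + 1)` needs dimension more than `2 ^ i`. -/
theorem two_power_bound (ρ : Representation (ZMod 2) K V) (hρ : Function.Injective ρ) {x : K} {i : ℕ}
    (hx : orderOf x = 2 ^ (i + 1)) : 2 ^ i + 1 ≤ finrank (ZMod 2) V := by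
  haveI : Fact (Nat.Prime 2) := ⟨Nat.prime_two⟩
  haveI : Nontrivial V := by
    by_contra h
    rw [not_nontrivial_iff_subsingleton] at h
    have := hρ (LinearMap.ext fun v => Subsingleton.elim (ρ x v) (ρ 1 v))
    rw [this, orderOf_one] at hx
    exact absurd hx (Nat.one_lt_two_pow (Nat.succ_ne_zero i)).ne
  haveI : CharP (Module.End (ZMod 2) V) 2 :=
    charP_of_injective_algebraMap (algebraMap (ZMod 2) (Module.End (ZMod 2) V)).injective 2
  have hpow : ∀ j : ℕ, (ρ x - 1) ^ 2 ^ j = ρ (x ^ 2 ^ j) - 1 := fun j => by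
    rw [sub_pow_char_pow_of_commute 2 j (Commute.one_right (ρ x)), one_pow, map_pow]
  have hnil : IsNilpotent (ρ x - 1) := ⟨2 ^ (i + 1), by
    rw [hpow, ← hx, pow_orderOf_eq_one, map_one, sub_self]⟩
  have hne : (ρ x - 1) ^ 2 ^ i ≠ 0 := by
    rw [hpow, sub_ne_zero, ← map_one ρ]
    exact fun h => (pow_ne_one_of_lt_orderOf (x := x) (pow_ne_zero _ two_ne_zero)
      (hx ▸ Nat.pow_lt_pow_right (by norm_num) (Nat.lt_succ_self i))) (hρ h)
  by_contra hlt
  push Not at hlt
  refine hne (pow_eq_zero_of_le (Nat.le_of_lt_succ hlt) ?_)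
  have := hnil.charpoly_eq_X_pow_finrank
  have h := LinearMap.aeval_self_charpoly (ρ x - 1)
  rw [this] at h
  simpa using h

end Cfsg.Agent.Lib.BenderConsumers23.Mod
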