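import Cfsg.Agent.Lib.LAEven65.RankOneL2
import Cfsg.Agent.Lib.LAEven65.SuzukiConj
import Cfsg.Agent.Lib.NumberTheory.Zsigmondy
import Cfsg.Agent.Lib.Unitary.Transvection
import Cfsg.Agent.Lib.PrimeGraph.SL2
import Cfsg.Agent.Lib.Spectrum.EPPOPrimes

/-!
# Large-order elements of the three rank-one families
-/

set_option autoImplicit false

namespace Cfsg.Agent.Lib.BenderConsumers23.Mod

open scoped Matrix

/-- `L` has an element whose prime power order bounds modules by `m`. -/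
def Big (L : Type*) [Group L] (m : ℕ) : Prop :=
  ∃ r e : ℕ, r.Prime ∧ r ≠ 2 ∧ (∀ j : ℕ, 2 ^ j ≡ 1 [MOD r ^ (e + 1)] → m ∣ j) ∧
    ∃ y : L, orderOf y = r ^ (e + 1)

/-- Two involutions of `L` generate such an element. -/
def BigPair (L : Type*) [Group L] (m : ℕ) : Prop :=
  ∃ r e : ℕ, r.Prime ∧ r ≠ 2 ∧ (∀ j : ℕ, 2 ^ j ≡ 1 [MOD r ^ (e + 1)] → m ∣ j) ∧
    ∃ u v y : L, orderOf u = 2 ∧ orderOf v = 2 ∧ y ∈ Subgroup.closure ({u, v} : Set L) ∧
      orderOf y = r ^ (e + 1)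

theorem Big.map {L L' : Type*} [Group L] [Group L'] {m : ℕ} (f : L →* L')
    (hf : Function.Injective f) (h : Big L m) : Big L' m := by
  obtain ⟨r, e, h1, h2, h3, y, hy⟩ := h
  exact ⟨r, e, h1, h2, h3, f y, by rw [orderOf_injective f hf, hy]⟩

theorem BigPair.map {L L' : Type*} [Group L] [Group L'] {m : ℕ} (f : L →* L')
    (hf : Function.Injective f) (h : BigPair L m) : BigPair L' m := by
  obtain ⟨r, e, h1, h2, h3, u, v, y, hu, hv, hy, hyo⟩ := h
  refine ⟨r, e, h1, h2, h3, f u, f v, f y, by rw [orderOf_injective f hf, hu],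
    by rw [orderOf_injective f hf, hv], ?_, by rw [orderOf_injective f hf, hyo]⟩
  have := Subgroup.mem_map_of_mem f hy
  rwa [MonoidHom.map_closure, Set.image_pair] at this

theorem BigPair.big {L : Type*} [Group L] {m : ℕ} (h : BigPair L m) : Big L m := by
  obtain ⟨r, e, h1, h2, h3, -, -, y, -, -, -, hy⟩ := h
  exact ⟨r, e, h1, h2, h3, y, hy⟩

/-- A primitive prime of `2 ^ (2 h) - 1` divides `2 ^ h + 1`. -/
theorem exists_prime {h : ℕ} (h2 : 2 ≤ h) (h3 : h ≠ 3) :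
    ∃ r : ℕ, r.Prime ∧ r ≠ 2 ∧ r ≠ 3 ∧ (∀ j : ℕ, 2 ^ j ≡ 1 [MOD r ^ (0 + 1)] → 2 * h ∣ j) ∧
      r ∣ 2 ^ h + 1 := by
  obtain ⟨r, hr, hro⟩ := NumberTheory.exists_primitive_prime (q := 2) (n := 2 * h) le_rfl (by omega)
    (fun hc => h3 (by omega)) (fun hc => by omega)
  haveI : Fact r.Prime := ⟨hr⟩
  have hpow : ((2 : ℕ) : ZMod r) ^ (2 * h) = 1 := hro ▸ pow_orderOf_eq_one _
  refine ⟨r, hr, ?_, ?_, fun j hj => ?_, ?_⟩
  · rintro rfl
    rw [ZMod.natCast_self, orderOf_zero] at hro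
    omega
  · rintro rfl
    have : orderOf ((2 : ℕ) : ZMod 3) ∣ 2 := orderOf_dvd_of_pow_eq_one (show ((2 : ℕ) : ZMod 3) ^ 2 = 1 from rfl)
    rw [hro] at this
    have := Nat.le_of_dvd (by norm_num) this
    omega
  · rw [zero_add, pow_one] at hj
    rw [← hro]
    refine orderOf_dvd_of_pow_eq_one ?_
    rw [← Nat.cast_pow, (ZMod.natCast_eq_natCast_iff _ _ _).2 hj, Nat.cast_one]
  · have h1 : (((2 : ℕ) : ZMod r) ^ h - 1) * (((2 : ℕ) : ZMod r) ^ h + 1) = 0 := by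
      linear_combination hpow
    rcases mul_eq_zero.mp h1 with e1 | e1
    · have := Nat.le_of_dvd (by omega) (hro ▸ orderOf_dvd_of_pow_eq_one (sub_eq_zero.mp e1))
      omega
    · rw [← ZMod.natCast_eq_zero_iff]; push_cast at e1 ⊢; exact e1

/-- The prime power used for `2 n`. -/
theorem exists_prime_power {n : ℕ} (hn : 2 ≤ n) :
    ∃ r e : ℕ, r.Prime ∧ r ≠ 2 ∧ (∀ j : ℕ, 2 ^ j ≡ 1 [MOD r ^ (e + 1)] → 2 * n ∣ j) ∧
      r ^ (e + 1) ∣ 2 ^ n + 1 ∧ (e = 0 ∨ n = 3 ∧ r = 3 ∧ e = 1) := by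
  by_cases h3 : n = 3
  · subst h3
    exact ⟨3, 1, Nat.prime_three, by norm_num, fun j hj => LAEven65.RankOneL2.six_dvd_of_modEq hj,
      by norm_num, Or.inr ⟨rfl, rfl, rfl⟩⟩
  · obtain ⟨r, hr, h2, -, hord, hd⟩ := exists_prime hn h3
    exact ⟨r, 0, hr, h2, hord, by simpa using hd, Or.inl rfl⟩

section Linear

open Cfsg.Agent.Lib.LAEven65.PSLConj

theorem bigPair_linear {F : Type} [Field F] [Fintype F] {n : ℕ} (hn : 2 ≤ n)
    (hF : Fintype.card F = 2 ^ n) :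
    BigPair (Matrix.ProjectiveSpecialLinearGroup (Fin 2) F) (2 * n) := by
  haveI : Fact (Nat.Prime 2) := ⟨Nat.prime_two⟩
  haveI : CharP F 2 := charP_of_card_eq_prime_pow (f := n) (by rw [hF])
  obtain ⟨r, e, hr, hr2, hord, hd, hcase⟩ := exists_prime_power hn
  haveI : Fact r.Prime := ⟨hr⟩
  obtain ⟨M, hM, hMo⟩ : ∃ M : Matrix.SpecialLinearGroup (Fin 2) F,
      M ∉ Subgroup.center (Matrix.SpecialLinearGroup (Fin 2) F) ∧ orderOf (proj M) = r ^ (e + 1) := by
    rcases hcase with rfl | ⟨rfl, rfl, rfl⟩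
    · obtain ⟨y, hy⟩ : ∃ y : Matrix.ProjectiveSpecialLinearGroup (Fin 2) F, orderOf y = r := by
        refine exists_prime_orderOf_dvd_card' r ?_
        have h := Linear.gcd_mul_card_PSL_two (F := F)
        rw [hF] at h
        have h' : r ∣ Nat.gcd 2 (2 ^ n - 1) * Nat.card (Matrix.ProjectiveSpecialLinearGroup (Fin 2) F) :=
          h ▸ ((by simpa using hd : r ∣ 2 ^ n + 1).mul_left _)
        rcases hr.dvd_mul.mp h' with h1 | h1
        · exact absurd ((Nat.prime_dvd_prime_iff_eq hr Nat.prime_two).mp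
            (h1.trans (Nat.gcd_dvd_left _ _))) hr2
        · exact h1
      obtain ⟨M, rfl⟩ := proj_surjective y
      refine ⟨M, fun hc => ?_, by simpa using hy⟩
      rw [(proj_eq_one_iff M).2 hc, orderOf_one] at hy
      exact hr.one_lt.ne hy
    · obtain ⟨M, -, h1, -, -, h4⟩ := exists_trace_eight (F := F) (by rw [hF]; rfl)
      exact ⟨M, h1, h4⟩
  set τ := (M : Matrix (Fin 2) (Fin 2) F).trace
  set w : Matrix.SpecialLinearGroup (Fin 2) F :=
    ⟨!![0, 1; 1, 0], by rw [Matrix.det_fin_two_of]; simp [CharTwo.neg_eq]⟩ with hw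
  have hinj : Function.Injective (proj (F := F)) := PrimeGraph.SL2.slEquivPSL.injective
  have hc : ∀ x : Matrix.SpecialLinearGroup (Fin 2) F,
      x ∈ Subgroup.center (Matrix.SpecialLinearGroup (Fin 2) F) → x = 1 := fun x hx => by
    rwa [PrimeGraph.SL2.center_eq_bot, Subgroup.mem_bot] at hx
  have hτ : τ ≠ 0 := fun h0 => by
    have h2 : M ^ 2 = 1 := by
      refine hc _ ((central_iff _).2 ⟨-(1 : F), ?_⟩)
      rw [sq, Matrix.SpecialLinearGroup.coe_mul, sq_eq, show (M : Matrix (Fin 2) (Fin 2) F).trace = 0 from h0,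
        M.2, zero_smul, zero_sub, one_smul, neg_one_smul]
    have h3 : orderOf (proj M) ∣ 2 := orderOf_dvd_of_pow_eq_one (by rw [← map_pow, h2, map_one])
    rw [hMo] at h3
    have := (Nat.prime_dvd_prime_iff_eq hr Nat.prime_two).1 ((dvd_pow_self r (Nat.succ_ne_zero e)).trans h3)
    exact hr2 this
  have h2 : ∀ x : Matrix.SpecialLinearGroup (Fin 2) F, x * x = 1 → x ≠ 1 → orderOf (proj x) = 2 :=
    fun x hx hx1 => by
      rw [orderOf_injective _ hinj]
      exact orderOf_eq_prime (by rw [sq, hx]) hx1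
  have hw2 : w * w = 1 := Subtype.ext (by
    rw [Matrix.SpecialLinearGroup.coe_mul, Matrix.SpecialLinearGroup.coe_one, hw]
    ext i j; fin_cases i <;> fin_cases j <;> simp)
  have hu2 : upM τ * upM τ = 1 := Subtype.ext (by
    rw [Matrix.SpecialLinearGroup.coe_mul, Matrix.SpecialLinearGroup.coe_one, upM]
    ext i j; fin_cases i <;> fin_cases j <;> simp [CharTwo.add_self_eq_zero])
  have hw1 : w ≠ 1 := fun h => by
    have := congrFun (congrFun (congrArg Subtype.val h) 0) 0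
    simp [hw] at this
  have hu1 : upM τ ≠ 1 := fun h => by
    have := congrFun (congrFun (congrArg Subtype.val h) 0) 1
    exact hτ (by simpa [upM] using this)
  set N := w * upM τ with hN
  have hNval : (N : Matrix (Fin 2) (Fin 2) F) = !![0, 1; 1, τ] := by
    rw [hN, Matrix.SpecialLinearGroup.coe_mul, hw, upM]
    ext i j; fin_cases i <;> fin_cases j <;> simp
  have hNc : N ∉ Subgroup.center (Matrix.SpecialLinearGroup (Fin 2) F) := fun h => by
    have := congrFun (congrFun (congrArg Subtype.val (hc N h)) 0) 1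
    rw [hNval] at this
    simp at this
  refine ⟨r, e, hr, hr2, hord, proj w, proj (upM τ), proj N, h2 w hw2 hw1, h2 _ hu2 hu1, ?_, ?_⟩
  · rw [hN, map_mul]
    exact mul_mem (Subgroup.subset_closure (Or.inl rfl)) (Subgroup.subset_closure (Or.inr rfl))
  · rw [← hMo]
    refine orderOf_eq_of_trace hNc hM ?_
    rw [hNval, Matrix.trace_fin_two]
    simp [τ]

end Linear

section Suzuki

open Cfsg.Agent.Lib.LieTwisted.Suzuki

theorem bigPair_suzuki {L : Type*} [Group L] {F : Type} [Field F] [Fintype F] {m : ℕ} (hm : 1 ≤ m)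
    (hF : Fintype.card F = 2 ^ (2 * m + 1)) (e : L ≃* Cfsg.Lie.Sz F (2 ^ (m + 1))) :
    BigPair L (4 * (2 * m + 1)) := by
  haveI : Fact (Nat.Prime 2) := ⟨Nat.prime_two⟩
  have h : IsSzField F m := ⟨hF⟩
  obtain ⟨r, hr, hr2, -, hord, hd⟩ := exists_prime (h := 2 * (2 * m + 1)) (by omega) (by omega)
  haveI : Fact r.Prime := ⟨hr⟩
  have hd' : r ∣ Fintype.card F ^ 2 + 1 := by rw [hF, ← pow_mul, mul_comm]; exact hd
  obtain ⟨s, hs⟩ := exists_prime_orderOf_dvd_card' (G := Cfsg.Sz F m) 2 (by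
    rw [h.card_group hm, hF]
    exact ((dvd_pow_self 2 (Nat.succ_ne_zero _)).trans (dvd_pow_self _ two_ne_zero)).mul_right _ |>.mul_right _)
  obtain ⟨g, y, hy, hyo⟩ := LAEven65.SuzukiConj.exists_pair h hm hs hd'
  have hB : BigPair (Cfsg.Sz F m) (4 * (2 * m + 1)) :=
    ⟨r, 0, hr, hr2, fun j hj => by
      have := hord j hj
      rwa [← mul_assoc] at this, s, g * s * g⁻¹, y, hs, ((MulAut.conj g).orderOf_eq s).trans hs, hy,
      by simpa using hyo⟩
  exact hB.map ((szEquiv h hm).trans e.symm).toMonoidHom ((szEquiv h hm).trans e.symm).injective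

end Suzuki

section Unitary

open Cfsg.Agent.Lib.Unitary

variable {F : Type} [Field F] [Fintype F] {n : ℕ}

theorem bigPair_unitary (hn : 2 ≤ n) (hF : Fintype.card F = (2 ^ n) ^ 2) :
    BigPair (Cfsg.PSU 3 F (2 ^ n)) (2 * n) := by
  classical
  haveI : Fact (Nat.Prime 2) := ⟨Nat.prime_two⟩
  haveI : CharP F 2 := charP_of_card_eq_prime_pow (f := n * 2) (by rw [hF, pow_mul])
  obtain ⟨r, e, hr, hr2, hord, hd, -⟩ := exists_prime_power hn
  haveI : Fact r.Prime := ⟨hr⟩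
  obtain ⟨g, hg⟩ := IsCyclic.exists_ofOrder_eq_natCard (α := Fˣ)
  have hdu : r ^ (e + 1) ∣ orderOf g := by
    rw [hg, Nat.card_eq_fintype_card, Fintype.card_units, hF]
    exact hd.trans ⟨2 ^ n - 1, by
      rw [← Nat.sq_sub_sq, one_pow]⟩
  obtain ⟨a, ha⟩ : ∃ a : Fˣ, orderOf a = r ^ (e + 1) :=
    ⟨g ^ (orderOf g / r ^ (e + 1)), orderOf_pow_orderOf_div (orderOf_pos g).ne' hdu⟩
  have hnorm : (a : F) * (a : F) ^ (2 ^ n) = 1 := by
    have h1 : a ^ (2 ^ n + 1) = 1 := orderOf_dvd_iff_pow_eq_one.1 (ha ▸ hd)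
    rw [← pow_succ', ← Units.val_pow_eq_pow_val, h1, Units.val_one]
  have hnorm' : ((a⁻¹ : Fˣ) : F) * ((a⁻¹ : Fˣ) : F) ^ (2 ^ n) = 1 := by
    rw [← pow_succ', ← Units.val_pow_eq_pow_val, inv_pow,
      orderOf_dvd_iff_pow_eq_one.1 (ha ▸ hd), inv_one, Units.val_one]
  set dv : Fin 3 → F := ![(a : F), ((a⁻¹ : Fˣ) : F), 1] with hdv
  have hdet : (Matrix.diagonal dv).det = 1 := by
    simp [Matrix.det_diagonal, Fin.prod_univ_three, hdv]
  have hP : (!![(0 : F), 1, 0; 1, 0, 0; 0, 0, 1]).det = 1 := by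
    simp [Matrix.det_fin_three, CharTwo.neg_eq]
  set D : Matrix.SpecialLinearGroup (Fin 3) F := ⟨Matrix.diagonal dv, hdet⟩ with hD
  set P : Matrix.SpecialLinearGroup (Fin 3) F := ⟨!![(0 : F), 1, 0; 1, 0, 0; 0, 0, 1], hP⟩ with hPdef
  have hDU : D ∈ Cfsg.SU 3 F (2 ^ n) := by
    intro u v
    show Cfsg.hermForm 3 F (2 ^ n) (Matrix.diagonal dv *ᵥ u) (Matrix.diagonal dv *ᵥ v) = _
    simp only [Cfsg.hermForm, Fin.sum_univ_three, Matrix.mulVec_diagonal, hdv, mul_pow]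
    simp only [Matrix.cons_val_zero, Matrix.cons_val_one, Matrix.cons_val_two, Matrix.tail_cons,
      Matrix.head_cons, one_pow, one_mul]
    linear_combination (u 0 * v 0 ^ (2 ^ n)) * hnorm + (u 1 * v 1 ^ (2 ^ n)) * hnorm'
  have hPU : P ∈ Cfsg.SU 3 F (2 ^ n) := by
    intro u v
    show Cfsg.hermForm 3 F (2 ^ n) (!![(0 : F), 1, 0; 1, 0, 0; 0, 0, 1] *ᵥ u)
      (!![(0 : F), 1, 0; 1, 0, 0; 0, 0, 1] *ᵥ v) = _
    simp [Cfsg.hermForm, Fin.sum_univ_three, Matrix.mulVec, dotProduct, add_comm]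
  set D' : Cfsg.SU 3 F (2 ^ n) := ⟨D, hDU⟩
  set P' : Cfsg.SU 3 F (2 ^ n) := ⟨P, hPU⟩
  have hP2 : P' * P' = 1 := Subtype.ext (Subtype.ext (by
    show (P : Matrix (Fin 3) (Fin 3) F) * (P : Matrix (Fin 3) (Fin 3) F) = 1
    rw [hPdef]
    ext i j; fin_cases i <;> fin_cases j <;> simp))
  have hpow : ∀ j : ℕ, ((D ^ j : Matrix.SpecialLinearGroup (Fin 3) F) : Matrix (Fin 3) (Fin 3) F) =
      Matrix.diagonal (dv ^ j) := fun j => by
    rw [Matrix.SpecialLinearGroup.coe_pow, hD, Matrix.diagonal_pow]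
  have hcomm : ∀ j : ℕ, D' ^ j ∈ Subgroup.center (Cfsg.SU 3 F (2 ^ n)) → a ^ j = 1 := by
    intro j hj
    have h1 : ((D ^ j : Matrix.SpecialLinearGroup (Fin 3) F) : Matrix (Fin 3) (Fin 3) F) *
        (P : Matrix (Fin 3) (Fin 3) F) = (P : Matrix (Fin 3) (Fin 3) F) *
          ((D ^ j : Matrix.SpecialLinearGroup (Fin 3) F) : Matrix (Fin 3) (Fin 3) F) :=
      congrArg Subtype.val (congrArg Subtype.val (Subgroup.mem_center_iff.1 hj P')).symm
    rw [hpow, hPdef] at h1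
    have h2 := congrFun (congrFun h1 0) 1
    simp [hdv] at h2
    have h3 : a ^ j = (a⁻¹) ^ j := Units.ext (by simpa using h2)
    have h4 : a ^ (2 * j) = 1 := by
      rw [two_mul, pow_add]
      nth_rw 2 [h3]
      rw [← mul_pow, mul_inv_cancel, one_pow]
    have h5 := orderOf_dvd_of_pow_eq_one h4
    rw [ha] at h5
    have h6 : r ^ (e + 1) ∣ j :=
      (Nat.Coprime.pow_left _ ((Nat.coprime_primes hr Nat.prime_two).2 hr2)).dvd_of_dvd_mul_left h5
    exact orderOf_dvd_iff_pow_eq_one.1 (ha ▸ h6)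
  set π := QuotientGroup.mk' (Subgroup.center (Cfsg.SU 3 F (2 ^ n))) with hπ
  have hDo : orderOf (π D') = r ^ (e + 1) := by
    rw [← ha]
    refine orderOf_eq_orderOf_iff.mpr fun j => ?_
    constructor
    · intro hj
      rw [← map_pow] at hj
      exact hcomm j ((QuotientGroup.eq_one_iff _).1 hj)
    · intro hj
      rw [← map_pow]
      refine (QuotientGroup.eq_one_iff _).2 ?_
      have : D' ^ j = 1 := Subtype.ext (Subtype.ext (by
        show ((D ^ j : Matrix.SpecialLinearGroup (Fin 3) F) : Matrix (Fin 3) (Fin 3) F) = 1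
        rw [hpow, ← Matrix.diagonal_one]
        congr 1
        funext i
        fin_cases i <;> simp [hdv, inv_pow, ← Units.val_pow_eq_pow_val, hj]))
      rw [this]
      exact one_mem _
  have hPD : P' * D' * (P' * D') = 1 := Subtype.ext (Subtype.ext (by
    show (P : Matrix (Fin 3) (Fin 3) F) * (D : Matrix (Fin 3) (Fin 3) F) *
      ((P : Matrix (Fin 3) (Fin 3) F) * (D : Matrix (Fin 3) (Fin 3) F)) = 1
    rw [hPdef, hD]
    ext i j; fin_cases i <;> fin_cases j <;>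
      simp [hdv, Matrix.mul_apply, Fin.sum_univ_three, Matrix.vecMul_diagonal]))
  have hinv : ∀ x : Cfsg.SU 3 F (2 ^ n), x * x = 1 → π x ≠ 1 → orderOf (π x) = 2 := fun x hx hx1 =>
    orderOf_eq_prime (by rw [sq, ← map_mul, hx, map_one]) hx1
  have hπP : π P' ≠ 1 := fun h => by
    have h1 := (Subgroup.mem_center_iff.1 ((QuotientGroup.eq_one_iff _).1 h) D').symm
    have h2 : (P : Matrix (Fin 3) (Fin 3) F) * (D : Matrix (Fin 3) (Fin 3) F) =
        (D : Matrix (Fin 3) (Fin 3) F) * (P : Matrix (Fin 3) (Fin 3) F) :=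
      congrArg Subtype.val (congrArg Subtype.val h1)
    rw [hPdef, hD] at h2
    have h3 := congrFun (congrFun h2 0) 1
    simp [hdv] at h3
    have h4 : a * a = 1 := by
      have h5 : a⁻¹ = a := Units.ext (by simpa using h3)
      nth_rw 1 [← h5]
      exact inv_mul_cancel a
    have h6 := orderOf_dvd_of_pow_eq_one ((sq a).trans h4)
    rw [ha] at h6
    exact hr2 ((Nat.prime_dvd_prime_iff_eq hr Nat.prime_two).1
      ((dvd_pow_self r (Nat.succ_ne_zero e)).trans h6))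
  have hπPD : π (P' * D') ≠ 1 := fun h => by
    rw [map_mul, mul_eq_one_iff_inv_eq] at h
    have := hDo
    rw [← h, orderOf_inv, hinv P' hP2 hπP] at this
    exact hr2 ((Nat.prime_dvd_prime_iff_eq hr Nat.prime_two).1
      ⟨r ^ e, by rw [this, pow_succ']⟩)
  refine ⟨r, e, hr, hr2, hord, π P', π (P' * D'), π D', hinv _ hP2 hπP, hinv _ hPD hπPD, ?_, hDo⟩
  have : π D' = π P' * π (P' * D') := by rw [← map_mul, ← mul_assoc, hP2, one_mul]
  rw [this]
  exact mul_mem (Subgroup.subset_closure (Or.inl rfl)) (Subgroup.subset_closure (Or.inr rfl))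

theorem big_unitary (hn : 2 ≤ n) (hF : Fintype.card F = (2 ^ n) ^ 2) :
    Big (Cfsg.PSU 3 F (2 ^ n)) (6 * n) := by
  obtain ⟨r, hr, hr2, hr3, hord, hd⟩ := exists_prime (h := 3 * n) (by omega) (by omega)
  haveI : Fact r.Prime := ⟨hr⟩
  refine ⟨r, 0, hr, hr2, fun j hj => by
    have := hord j hj
    rwa [← mul_assoc] at this, ?_⟩
  rw [zero_add, pow_one]
  refine exists_prime_orderOf_dvd_card' r ?_
  have h1 := card_GU (F := F) hF 3
  have h2 := card_SU (F := F) hF (by norm_num : 1 ≤ 3)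
  rw [← card_PSU hF (by norm_num : 2 ≤ 3), h1] at h2
  norm_num [Finset.prod_range_succ] at h2
  have h3 : r ∣ (2 ^ n) ^ 3 + 1 := by rw [← pow_mul, mul_comm]; exact hd
  set X := Nat.card (Cfsg.PSU 3 F (2 ^ n))
  set g := Nat.gcd 3 (2 ^ n + 1)
  have h4 : g * X = (2 ^ n) ^ 3 * ((2 ^ n) ^ 2 - 1) * ((2 ^ n) ^ 3 + 1) := by
    apply Nat.eq_of_mul_eq_mul_left (show 0 < 2 ^ n + 1 by positivity)
    rw [h2]; ring
  have h5 : r ∣ g * X := h4 ▸ h3.mul_left _
  rcases hr.dvd_mul.1 h5 with h | h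
  · exact absurd ((Nat.prime_dvd_prime_iff_eq hr Nat.prime_three).1 (h.trans (Nat.gcd_dvd_left _ _))) hr3
  · exact h

end Unitary

end Cfsg.Agent.Lib.BenderConsumers23.Mod
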