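import Cfsg.Agent.Lib.BenderConsumers23.Basic
import Cfsg.Agent.Lib.BenderConsumers23.Mod.Bridge
import Cfsg.Agent.Lib.BenderConsumers23.Mod.Abelian
import Cfsg.Agent.Lib.BenderConsumers23.Mod.Arith
import Cfsg.Agent.Lib.Cores.InvariantSylow
import Cfsg.Agent.Lib.PGroups.UniqueInvolution

/-!
# S3841 without commuting involutions
-/

set_option autoImplicit false

namespace Cfsg.Agent.Lib.BenderConsumers23.Mod

open Module Cfsg.Agent.Lib.Involutions.Basic Cfsg.Agent.Lib.Involutions.StronglyEmbedded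
open Cfsg.Agent.Lib.BenderSuzuki

universe u v

variable {G : Type u} [Group G] [Finite G] {H : Subgroup G}

theorem oneInvol_of_not_twoRank (h : ¬ TwoRank G) (S : Sylow 2 G) {t : G} (ht : orderOf t = 2)
    (htS : t ∈ (S : Subgroup G)) : OneInvol (S : Subgroup G) t := by
  haveI : Fact (Nat.Prime 2) := ⟨Nat.prime_two⟩
  refine ⟨S.2, htS, ht, fun s hs hs2 => ?_⟩
  obtain ⟨z, hzZ, hz2⟩ : ∃ z : G, (∀ x ∈ (S : Subgroup G), z * x = x * z) ∧ orderOf z = 2 := by
    haveI : Nontrivial (S : Subgroup G) := ⟨⟨⟨t, htS⟩, 1, fun e =>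
      invol_ne_one ht (congrArg Subtype.val e)⟩⟩
    haveI := S.2.center_nontrivial
    obtain ⟨z, hz⟩ := exists_prime_orderOf_dvd_card' 2
      (S.2.to_subgroup (Subgroup.center (S : Subgroup G)) |>.card_eq_or_dvd.resolve_left
        (Finite.one_lt_card).ne')
    refine ⟨((z : (S : Subgroup G)) : G), fun x hx => ?_, by rw [Subgroup.orderOf_coe, Subgroup.orderOf_coe, hz]⟩
    exact (congrArg Subtype.val (Subgroup.mem_center_iff.1 z.2 ⟨x, hx⟩)).symm
  rw [← eq_of_not_twoRank h hz2 ht (hzZ t htS), eq_of_not_twoRank h hz2 hs2 (hzZ s hs)]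

/-- Without commuting involutions a strongly embedded subgroup makes `t` act non-trivially on the
odd core. -/
theorem not_oddCore_le (hH : Cfsg.IsStronglyEmbedded H) (h : ¬ TwoRank G) {t : G} (ht : orderOf t = 2) :
    ¬ Cfsg.oddCore G ≤ Subgroup.centralizer ({t} : Set G) := by
  intro hle
  have htop := sup_centralizer_of_iso (iso_of_not_twoRank h ht)
  rw [sup_eq_right.2 hle] at htop
  obtain ⟨g, hg⟩ := exists_conj_mem hH ht
  have h1 : g * t * g⁻¹ = t := mul_inv_eq_iff_eq_mul.2
    (Subgroup.mem_centralizer_singleton_iff.1 (htop ▸ Subgroup.mem_top g))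
  have htH : t ∈ H := h1 ▸ hg
  exact hH.1 (top_le_iff.1 (htop ▸ centralizer_le hH ht htH))

variable {V : Type v} [AddCommGroup V] [Module (ZMod 2) V] [Module.Finite (ZMod 2) V]

theorem card_GL_dvd (ρ : Representation (ZMod 2) G V) (hρ : Function.Injective ρ) (R : Subgroup G) :
    Nat.card R ∣ Nat.card (GL (Fin (finrank (ZMod 2) V)) (ZMod 2)) := by
  let B := Module.finBasis (ZMod 2) V
  let f : G →* Matrix (Fin (finrank (ZMod 2) V)) (Fin (finrank (ZMod 2) V)) (ZMod 2) :=
    (LinearMap.toMatrixAlgEquiv B).toRingEquiv.toMonoidHom.comp ρ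
  have hf : Function.Injective f := (LinearMap.toMatrixAlgEquiv B).injective.comp hρ
  refine (Subgroup.card_subgroup_dvd_card R).trans
    (Subgroup.card_dvd_of_injective f.toHomUnits fun x y e => hf ?_)
  simpa [MonoidHom.coe_toHomUnits] using congrArg Units.val e

/-- Part one of S3841 in the case without commuting involutions. -/
theorem two_mul_le (hH : Cfsg.IsStronglyEmbedded H) (h : ¬ TwoRank G) (S : Sylow 2 G)
    (ρ : Representation (ZMod 2) G V) (hρ : Function.Injective ρ) {k : ℕ}
    (hk : Nat.card ↥(S : Subgroup G) = 2 ^ k) : 2 * k ≤ finrank (ZMod 2) V := by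
  haveI : Fact (Nat.Prime 2) := ⟨Nat.prime_two⟩
  have h2G : 2 ∣ Nat.card G := (even_iff_two_dvd.1 hH.2.1).trans (Subgroup.card_subgroup_dvd_card H)
  have hk1 : 1 ≤ k := by
    have := S.dvd_card_of_dvd_card h2G
    rw [hk] at this
    by_contra hc
    rw [show k = 0 by omega, pow_zero] at this
    omega
  obtain ⟨⟨t, htS⟩, ht⟩ := exists_prime_orderOf_dvd_card' (G := (S : Subgroup G)) 2
    (hk ▸ dvd_pow_self 2 (by omega))
  rw [← Subgroup.orderOf_coe] at ht
  have hO := oneInvol_of_not_twoRank h S ht htS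
  by_cases hk5 : k ≤ 5
  · by_contra hlt
    push Not at hlt
    apply not_oddCore_le hH h ht
    set O := Cfsg.oddCore G
    have hN : ∀ P : Subgroup G, P ≤ Subgroup.normalizer (O : Set G) := fun P => by
      rw [Subgroup.normalizer_eq_top_iff.2 inferInstance]; exact le_top
    have hOodd : Odd (Nat.card O) := ZStar.Elements.oddCore_odd
    have hcop : (Nat.card ↥(S : Subgroup G)).Coprime (Nat.card O) := by
      rw [hk]; exact (Nat.coprime_two_left.2 hOodd).pow_left _
    refine inf_eq_left.mp (Subgroup.eq_of_le_of_card_ge (H := O ⊓ _) inf_le_left ?_)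
    set C := (Subgroup.centralizer ({t} : Set G)).subgroupOf O
    suffices h1 : C.index = 1 by
      rw [Subgroup.index_eq_one, Subgroup.subgroupOf_eq_top] at h1
      rw [inf_eq_left.mpr h1]
    refine Nat.eq_one_iff_not_exists_prime_dvd.mpr fun p hp hd => ?_
    haveI := Fact.mk hp
    haveI := S.2.isNilpotent
    obtain ⟨R, hRO, hRp, hRi, hRS⟩ :=
      Cores.InvariantSylow.exists_invariant (hN _) hcop (Or.inl inferInstance) p
    refine hRi (hd.trans (Subgroup.relIndex_dvd_of_le_left O (fun r hr => ?_)))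
    refine Subgroup.mem_centralizer_singleton_iff.2 (mul_inv_eq_iff_eq_mul.1 ?_).symm
    have hp2 : p ≠ 2 := by
      rintro rfl
      exact Nat.not_even_iff_odd.2 hOodd (even_iff_two_dvd.2 (hd.trans (Subgroup.index_dvd_card C)))
    obtain ⟨a, ha⟩ := IsPGroup.iff_card.1 hRp
    by_cases hab : ∀ x ∈ R, ∀ y ∈ R, x * y = y * x
    · by_contra hne
      have hRodd : Odd (Nat.card R) := Odd.of_dvd_nat hOodd (Subgroup.card_dvd_of_le hRO)
      have h1 := hO.card_le_of_abelian ρ hρ hRodd hab hRS hr hne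
      rw [hk] at h1
      have : 2 * k ≤ 2 ^ k := by interval_cases k <;> norm_num
      omega
    · have ha3 : 3 ≤ a := by
        by_contra hc
        refine hab fun x hx y hy => ?_
        haveI : IsMulCommutative R := by
          rcases (show a = 0 ∨ a = 1 ∨ a = 2 by omega) with rfl | rfl | rfl
          · haveI : Subsingleton R := (Nat.card_eq_one_iff_unique.1 (by rw [ha, pow_zero])).1
            exact ⟨⟨fun _ _ => Subsingleton.elim _ _⟩⟩
          · haveI := isCyclic_of_prime_card (α := R) (by rw [ha, pow_one] : Nat.card R = p)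
            infer_instance
          · exact IsPGroup.isMulCommutative_of_card_eq_prime_sq ha
        exact congrArg Subtype.val (mul_comm' (⟨x, hx⟩ : R) ⟨y, hy⟩)
      exact hO.centralizes hp2 ha hk
        (no_one_residue hk5 (by omega) hp hp2 (ha ▸ card_GL_dvd ρ hρ R) ha3) hab hRS r hr
  · push Not at hk5
    have hbig : ∀ i : ℕ, 5 ≤ i → 2 * (i + 1) ≤ 2 ^ (i - 1) + 1 := by
      intro i hi
      induction i, hi using Nat.le_induction with
      | base => norm_num
      | succ i hi ih =>
        rw [show i + 1 - 1 = (i - 1) + 1 by omega, pow_succ]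
        have := Nat.one_le_two_pow (n := i - 1)
        omega
    obtain ⟨x, i, hx, hi⟩ : ∃ (x : G) (i : ℕ), orderOf x = 2 ^ (i + 1) ∧ k ≤ i + 2 := by
      rcases PGroups.isCyclic_or_quaternion (G := (S : Subgroup G)) S.2 (fun x y hx hy => by
        rw [show y = x from Subtype.ext ((hO.unique y y.2 (by rw [Subgroup.orderOf_coe, hy])).trans
          (hO.unique x x.2 (by rw [Subgroup.orderOf_coe, hx])).symm)]
        exact Subgroup.mem_zpowers x) with hc | ⟨-, n, hn, ⟨e⟩⟩
      · obtain ⟨g, hg⟩ := IsCyclic.exists_ofOrder_eq_natCard (α := (S : Subgroup G))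
        exact ⟨g, k - 1, by rw [Subgroup.orderOf_coe, hg, hk, Nat.sub_add_cancel hk1], by omega⟩
      · haveI : NeZero (2 ^ n) := ⟨pow_ne_zero _ two_ne_zero⟩
        have h4 : 2 ^ k = 4 * 2 ^ n := by
          rw [← hk, Nat.card_congr e.toEquiv, Nat.card_eq_fintype_card, QuaternionGroup.card]
        have hkn : k = n + 2 := Nat.pow_right_injective (le_refl 2) (by
          show 2 ^ k = 2 ^ (n + 2)
          rw [h4, pow_add]; ring)
        refine ⟨e.symm (QuaternionGroup.a 1), n, ?_, by omega⟩
        rw [Subgroup.orderOf_coe, e.symm.orderOf_eq, QuaternionGroup.orderOf_a_one, pow_succ']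
    have h1 := two_power_bound ρ hρ hx
    have h2 := hbig (k - 1) (by omega)
    have h3 : 2 ^ (k - 1 - 1) ≤ 2 ^ i := Nat.pow_le_pow_right (by norm_num) (by omega)
    rw [Nat.sub_add_cancel hk1] at h2
    omega

end Cfsg.Agent.Lib.BenderConsumers23.Mod
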