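import Cfsg.Agent.Lib.BenderConsumers23.Structure
import Cfsg.Agent.Lib.BenderConsumers23.Mod.NoFour
import Cfsg.Agent.Lib.BenderConsumers23.Mod.Families

/-!
# S3841: faithful modules over two elements for groups with a strongly embedded subgroup
-/

set_option autoImplicit false

namespace Cfsg.Agent.Lib.BenderConsumers23.Mod

open scoped Pointwise
open Module MulAction Cfsg.Agent.Lib.Involutions.Basic Cfsg.Agent.Lib.Involutions.StronglyEmbedded
open Cfsg.Agent.Lib.BenderSuzuki Cfsg.Agent.Lib.RankOne.Basic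

universe u v

variable {G : Type u} [Group G] [Finite G]

theorem odd_index_of_setup {Ω : Type u} [MulAction G Ω] {a : Ω} {t : G} {Q : Subgroup G}
    (hS : Cfsg.IsRankOneSetup G Ω a t Q) : Odd Q.index := by
  have := finiteOmega hS
  have hG : Nat.card G = Nat.card (stabilizer G a) * Nat.card Ω := by
    rw [← (stabilizer G a).card_mul_index, MulAction.index_stabilizer]
    congr 1
    haveI := pretransitive hS
    rw [MulAction.orbit_eq_univ, Set.ncard_univ]
  rw [card_stab hS, card_omega hS, ← Q.card_mul_index, mul_assoc] at hG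
  rw [Nat.eq_of_mul_eq_mul_left Nat.card_pos hG]
  exact hS.odd_card.mul hS.even_card.add_one

/-- The numerical content of the classification: `|Q| = 2 ^ E` with modules of dimension at least
`2 E`, and involution pairs bounding by twice the exponent of `q`. -/
theorem numeric {Ω : Type u} [MulAction G Ω] {a : Ω} {t : G} {Q : Subgroup G}
    (hS : Cfsg.IsRankOneSetup G Ω a t Q) (h : Good G Ω a t Q) :
    ∃ E N : ℕ, Nat.card Q = 2 ^ E ∧ qNum G a = 2 ^ N ∧ Big G (2 * E) ∧ BigPair G (2 * N) := by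
  obtain ⟨hQp, L, -, -, hQL, -, hcase⟩ := h
  rcases hcase with ⟨hQ, -, F, i, j, hF, ⟨n, hn, hq⟩, ⟨e⟩⟩ | ⟨hQ, -, F, i, j, m, hm, hF, ⟨e⟩⟩ |
    ⟨hQ, -, -, F, i, j, n, hn, hq, hF, ⟨e⟩⟩
  · have hp := (bigPair_linear hn (hF.trans hq)).map (L.subtype.comp e.symm.toMonoidHom)
      (L.subtype_injective.comp e.symm.injective)
    exact ⟨n, n, hQ.trans hq, hq, hp.big, hp⟩
  · have hp := (bigPair_suzuki hm hF e).map L.subtype L.subtype_injective
    have hM : Nat.card Q = 2 ^ (2 * (2 * m + 1)) := by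
      haveI : Fact (Nat.Prime 2) := ⟨Nat.prime_two⟩
      obtain ⟨b, hb⟩ := IsPGroup.iff_card.1 hQp
      have hL : Nat.card L = 2 ^ (2 * (2 * m + 1)) *
          ((Fintype.card F ^ 2 + 1) * (Fintype.card F - 1)) := by
        rw [Nat.card_congr e.toEquiv, Spectrum.EPPOPrimes.card_sz F hm hF, mul_assoc]
        congr 1
        rw [hF, ← pow_mul, mul_comm]
      have hFe : Even (Fintype.card F) := by rw [hF, Nat.even_pow]; exact ⟨even_two, by omega⟩
      have hodd : Odd ((Fintype.card F ^ 2 + 1) * (Fintype.card F - 1)) :=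
        ((hFe.pow_of_ne_zero two_ne_zero).add_one).mul
          (Nat.Even.sub_odd (Fintype.card_pos) hFe odd_one)
      have hri : Odd (Q.relIndex L) :=
        Odd.of_dvd_nat (odd_index_of_setup hS) (Subgroup.relIndex_dvd_index_of_le hQL)
      have hmul : Nat.card Q * Q.relIndex L = Nat.card L := by
        rw [← Nat.card_congr (Subgroup.subgroupOfEquivOfLe hQL).toEquiv]
        exact (Q.subgroupOf L).card_mul_index
      rw [hb, hL] at hmul
      rw [hb]
      refine Nat.dvd_antisymm ?_ ?_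
      · exact ((Nat.coprime_two_left.2 hodd).pow_left b).dvd_of_dvd_mul_right (Dvd.intro _ hmul)
      · exact ((Nat.coprime_two_left.2 hri).pow_left _).dvd_of_dvd_mul_right (Dvd.intro _ hmul.symm)
    refine ⟨2 * (2 * m + 1), 2 * m + 1, hM, ?_, ?_, ?_⟩
    · rw [hM] at hQ
      refine Nat.pow_left_injective two_ne_zero ?_
      show qNum G a ^ 2 = (2 ^ (2 * m + 1)) ^ 2
      rw [← hQ, ← pow_mul, mul_comm]
    · rw [← mul_assoc]; exact hp.big
    · obtain ⟨r, f, h1, h2, h3, h4⟩ := hp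
      exact ⟨r, f, h1, h2, fun k hk => (mul_dvd_mul_right (by norm_num) _).trans (h3 k hk), h4⟩
  · have hinj := L.subtype_injective.comp e.symm.injective
    refine ⟨3 * n, n, by rw [hQ, hq, ← pow_mul, mul_comm], hq, ?_,
      (bigPair_unitary hn hF).map (L.subtype.comp e.symm.toMonoidHom) hinj⟩
    rw [← mul_assoc]
    exact (big_unitary hn hF).map (L.subtype.comp e.symm.toMonoidHom) hinj

variable {H : Subgroup G} {V : Type v} [AddCommGroup V] [Module (ZMod 2) V]
  [Module.Finite (ZMod 2) V]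

/-- S3841. -/
theorem row3841 (hP : PropPartOne.{u}) (hMain : PropMain.{u, u}) (hH : Cfsg.IsStronglyEmbedded H)
    (S : Sylow 2 G) (ρ : Representation (ZMod 2) G V) (hρ : Function.Injective ρ) :
    (∀ k : ℕ, Nat.card ↥(S : Subgroup G) = 2 ^ k → 2 * k ≤ finrank (ZMod 2) V) ∧
    ∀ n : ℕ, (∀ z ∈ (S : Subgroup G) ⊓ Subgroup.centralizer ((S : Subgroup G) : Set G), z ^ 2 = 1) →
      Nat.card ↥((S : Subgroup G) ⊓ Subgroup.centralizer ((S : Subgroup G) : Set G)) = 2 ^ n →
      ∀ s ∈ (S : Subgroup G), s ≠ 1 → n ≤ finrank (ZMod 2) ↥(LinearMap.range (ρ s - 1)) := by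
  classical
  haveI : Fact (Nat.Prime 2) := ⟨Nat.prime_two⟩
  set Z := (S : Subgroup G) ⊓ Subgroup.centralizer ((S : Subgroup G) : Set G) with hZ
  have hzi : ∀ (_ : ∀ z ∈ Z, z ^ 2 = 1), ∀ z ∈ Z, z ≠ 1 → orderOf z = 2 := fun hZ2 z hz hz1 =>
    orderOf_eq_prime (hZ2 z hz) hz1
  by_cases h2 : TwoRank G
  swap
  · refine ⟨fun k hk => two_mul_le hH h2 S ρ hρ hk, fun n hZ2 hn s hs hs1 => ?_⟩
    have h1 : 1 ≤ finrank (ZMod 2) ↥(LinearMap.range (ρ s - 1)) := by
      rw [Nat.one_le_iff_ne_zero, Ne, Submodule.finrank_eq_zero, LinearMap.range_eq_bot, sub_eq_zero]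
      exact fun e => hs1 (hρ (e.trans (map_one ρ).symm))
    refine le_trans ?_ h1
    by_contra hn2
    have h4 : 2 < Nat.card Z := by
      rw [hn]
      calc 2 < 2 ^ 2 := by norm_num
        _ ≤ 2 ^ n := Nat.pow_le_pow_right (by norm_num) (by omega)
    haveI := Fintype.ofFinite Z
    rw [Nat.card_eq_fintype_card, Fintype.two_lt_card_iff] at h4
    obtain ⟨x, y, z, hxy, hxz, hyz⟩ := h4
    have key : ∀ x y : Z, x ≠ 1 → y ≠ 1 → x = y := fun x y hx hy => Subtype.ext
      (eq_of_not_twoRank h2 (hzi hZ2 x x.2 (by simpa using hx)) (hzi hZ2 y y.2 (by simpa using hy))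
        (Subgroup.mem_centralizer_iff.1 y.2.2 x x.2.1))
    rcases eq_or_ne x 1 with hx | hx
    · exact hyz (key y z (hx ▸ hxy.symm) (hx ▸ hxz.symm))
    rcases eq_or_ne y 1 with hy | hy
    · exact hxz (key x z hx (hy ▸ hyz.symm))
    exact hxy (key x y hx hy)
  obtain ⟨hH', h2', hc⟩ := quotient_oddCore hH h2
  obtain ⟨t, Q, hh, hg⟩ := good hP hMain hH' h2' hc
  obtain ⟨E, N, hQE, hqN, hBig, hPair⟩ := numeric hh.setup hg
  set π := QuotientGroup.mk' (Cfsg.oddCore G) with hπ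
  have hsurj : Function.Surjective π := QuotientGroup.mk'_surjective _
  have hodd : Odd (Nat.card (Cfsg.oddCore G)) := ZStar.Elements.oddCore_odd
  have hinjS : ∀ x ∈ (S : Subgroup G), π x = 1 → x = 1 := by
    intro x hx h1
    have hd1 : orderOf x ∣ Nat.card (Cfsg.oddCore G) :=
      Subgroup.orderOf_dvd_natCard _ ((QuotientGroup.eq_one_iff _).1 h1)
    obtain ⟨i, hi⟩ := IsPGroup.iff_card.1 S.2
    have hd2 : orderOf x ∣ 2 ^ i := hi ▸ Subgroup.orderOf_dvd_natCard _ hx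
    exact orderOf_eq_one_iff.1 (Nat.eq_one_of_dvd_coprimes
      ((Nat.coprime_two_left.2 hodd).pow_left i) hd2 hd1)
  set S' := S.mapSurjective hsurj with hS'
  have hQi : ¬ 2 ∣ Q.index := fun h =>
    Nat.not_even_iff_odd.2 (odd_index_of_setup hh.setup) (even_iff_two_dvd.2 h)
  set SQ := hg.1.toSylow hQi with hSQ
  have hcardS : Nat.card ↥(S : Subgroup G) = 2 ^ E := by
    rw [← hQE]
    have hi : Function.Injective (π.comp (S : Subgroup G).subtype) := by
      rw [injective_iff_map_eq_one]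
      exact fun x hx => Subtype.ext (hinjS x x.2 hx)
    calc Nat.card ↥(S : Subgroup G) = Nat.card ↥(S' : Subgroup (G ⧸ Cfsg.oddCore G)) := by
          rw [hS', Sylow.coe_mapSurjective,
            Nat.card_congr (MonoidHom.ofInjective hi).toEquiv, MonoidHom.range_comp, Subgroup.range_subtype]
      _ = Nat.card ↥(SQ : Subgroup (G ⧸ Cfsg.oddCore G)) := by rw [S'.card_eq_multiplicity, SQ.card_eq_multiplicity]
      _ = Nat.card Q := rfl
  refine ⟨fun k hk => ?_, fun n hZ2 hn s hs hs1 => ?_⟩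
  · have hkE : k = E := Nat.pow_right_injective le_rfl (hk.symm.trans hcardS)
    subst hkE
    obtain ⟨r, e, hr, hr2, hord, y, hy⟩ := hBig
    haveI := Fact.mk hr
    obtain ⟨y, rfl⟩ := hsurj y
    exact rank_bound ρ hρ π hr2 hord hy
  have hnN : n ≤ N := by
    obtain ⟨g, hgS⟩ := MulAction.exists_smul_eq (G ⧸ Cfsg.oddCore G) S' SQ
    have hmem : ∀ x ∈ (S : Subgroup G), g * π x * g⁻¹ ∈ Q := fun x hx => by
      have h1 : π x ∈ (S' : Subgroup (G ⧸ Cfsg.oddCore G)) := Subgroup.mem_map_of_mem π hx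
      have h3 := Subgroup.smul_mem_pointwise_smul (a := MulAut.conj g) (π x) _ h1
      have h4 : MulAut.conj g • (S' : Subgroup (G ⧸ Cfsg.oddCore G)) = Q :=
        congrArg Sylow.toSubgroup hgS
      rw [h4] at h3
      exact h3
    set a := ((1 : G ⧸ Cfsg.oddCore G) : (G ⧸ Cfsg.oddCore G) ⧸ H.map π)
    have hle : ((Z : Set G) \ {1}).ncard ≤ (invs (G ⧸ Cfsg.oddCore G) a).ncard := by
      refine Set.ncard_le_ncard_of_injOn (fun z => g * π z * g⁻¹) ?_ ?_ (Set.toFinite _)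
      · rintro z ⟨hz, hz1 : z ≠ 1⟩
        refine ⟨hh.setup.le (hmem z hz.1), fun h => ?_, ?_⟩
        · exact hz1 (hinjS z hz.1 (conj_eq_one_iff.1 h))
        · rw [show g * π z * g⁻¹ * (g * π z * g⁻¹) = g * (π z * π z) * g⁻¹ by group,
            ← map_mul, ← sq, hZ2 z hz, map_one, mul_one, mul_inv_cancel]
      · rintro x ⟨hx, -⟩ y ⟨hy, -⟩ h
        have h1 : π x = π y := mul_left_cancel (mul_right_cancel h)
        exact mul_inv_eq_one.1 (hinjS _ (mul_mem hx.1 ((S : Subgroup G).inv_mem hy.1))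
          (by rw [map_mul, map_inv, h1, mul_inv_cancel]))
    rw [Set.ncard_sdiff_singleton_of_mem Z.one_mem, ← Nat.card_coe_set_eq, ← Nat.card_coe_set_eq] at hle
    have hq : Nat.card ↥(invs (G ⧸ Cfsg.oddCore G) a) + 1 = 2 ^ N := hqN
    refine (Nat.pow_le_pow_iff_right (le_refl 2)).1 ?_
    rw [← hn]
    show Nat.card ↥(Z : Set G) ≤ 2 ^ N
    omega
  refine hnN.trans ?_
  obtain ⟨k, hk⟩ : ∃ k, orderOf s = 2 ^ k := by
    obtain ⟨i, hi⟩ := IsPGroup.iff_card.1 S.2
    obtain ⟨k, -, hk⟩ := (Nat.dvd_prime_pow Nat.prime_two).1 (hi ▸ Subgroup.orderOf_dvd_natCard _ hs)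
    exact ⟨k, hk⟩
  rcases k with _ | k
  · exact absurd (orderOf_eq_one_iff.1 (by rwa [pow_zero] at hk)) hs1
  set s' := s ^ 2 ^ k with hs'
  have hs'2 : orderOf s' = 2 := by
    rw [hs', orderOf_pow_of_dvd (pow_ne_zero _ two_ne_zero) (hk ▸ pow_dvd_pow 2 (Nat.le_succ k)), hk,
      pow_succ, Nat.mul_div_cancel_left _ (pow_pos (by norm_num) k)]
  refine le_trans ?_ (Submodule.finrank_mono (range_pow_le ρ s (2 ^ k)))
  have hπs : orderOf (π s') = 2 := orderOf_eq_prime
    (by rw [sq, ← map_mul, invol_mul_self hs'2, map_one])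
    fun h => invol_ne_one hs'2 (hinjS _ (pow_mem hs _) h)
  obtain ⟨r, e, hr, hr2, hord, x, y, w, hx, hy, hw, hwo⟩ := hPair
  haveI := Fact.mk hr
  obtain ⟨c, hcx⟩ := isConj_iff.1 (isConj_involutions hH' hπs hx)
  obtain ⟨d, hdy⟩ := isConj_iff.1 (isConj_involutions hH' hπs hy)
  obtain ⟨g, hgl⟩ := hsurj (c⁻¹ * d)
  have hwm : c⁻¹ * w * c ∈ (Subgroup.closure ({s', g * s' * g⁻¹} : Set G)).map π := by
    rw [MonoidHom.map_closure, Set.image_pair, map_mul, map_mul, map_inv, hgl]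
    have h1 := Subgroup.mem_map_of_mem (MulAut.conj c⁻¹).toMonoidHom hw
    rw [MonoidHom.map_closure, Set.image_pair] at h1
    have e0 : c⁻¹ * w * c = (MulAut.conj c⁻¹).toMonoidHom w := by simp
    have e1 : (MulAut.conj c⁻¹).toMonoidHom x = π s' := by rw [← hcx]; simp [mul_assoc]
    have e2 : (MulAut.conj c⁻¹).toMonoidHom y = c⁻¹ * d * π s' * (c⁻¹ * d)⁻¹ := by
      rw [← hdy]; simp [mul_assoc]
    rw [e0]
    rwa [e1, e2] at h1
  obtain ⟨w', hw', hπw⟩ := hwm
  obtain ⟨h1, -⟩ := two_mul_rank_bound ρ hρ π hr2 hord (s := s') ⟨g, w', hw', by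
    rw [hπw]
    have := (MulAut.conj c⁻¹).orderOf_eq w
    simp only [MulAut.conj_apply, inv_inv] at this
    rw [this, hwo]⟩
  rw [← hs']
  omega

end Cfsg.Agent.Lib.BenderConsumers23.Mod
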